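import Groth.Agent.EtBlowSqLib.Square
import Groth.Agent.ConsEmbedLib.Point
import Groth.Agent.SkySumLib.Cohom
import Mathlib

/-!
# Cohomology and finite surjective morphisms which are isomorphisms off finitely many points
-/

set_option autoImplicit false
set_option linter.unusedSectionVars false
set_option linter.style.haveILetI false
set_option backward.isDefEq.respectTransparency false
set_option backward.isDefEq.respectTransparency.types false
set_option synthInstance.maxHeartbeats 400000
set_option maxHeartbeats 1000000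

universe u

open CategoryTheory CategoryTheory.Limits CategoryTheory.Abelian AlgebraicGeometry Opposite TopologicalSpace
open Groth.Agent Groth.Agent.EtShLib

attribute [local instance] CategoryTheory.Abelian.hasFiniteBiproducts EtSliceLib.pullExact

noncomputable section

namespace EtBlowSq

/-- Proper closed subsets of an irreducible curve have dimension zero. -/
theorem dim_le_zero {X : Scheme.{u}} [IrreducibleSpace X] (hdim : topologicalKrullDim X ≤ 1) {Z : Type u}
    [TopologicalSpace Z] {i : Z → X} (hi : Topology.IsClosedEmbedding i) (hne : Set.range i ≠ Set.univ) :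
    topologicalKrullDim Z ≤ 0 := by
  refine Order.krullDim_nonpos_iff_forall_isMax.2 fun A B hAB => ?_
  by_contra h
  have hlt : A < B := lt_of_le_not_ge hAB h
  let m := TopologicalSpace.IrreducibleCloseds.map i hi.continuous
  have hm : StrictMono m := TopologicalSpace.IrreducibleCloseds.map_strictMono_of_isInducing hi.isInducing
  let T : IrreducibleCloseds X := ⟨Set.univ, IrreducibleSpace.isIrreducible_univ X, isClosed_univ⟩
  have hBT : m B < T := by
    refine lt_of_le_of_ne (fun x _ => trivial) fun e => hne ?_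
    refine Set.eq_univ_of_univ_subset ?_
    have e' : ((m B : IrreducibleCloseds X) : Set X) = Set.univ := congrArg (fun s : IrreducibleCloseds X => (s : Set X)) e
    rw [← e']
    exact closure_minimal (Set.image_subset_range _ _) hi.isClosed_range
  rcases Order.krullDim_le_one_iff.1 hdim (m B) with h1 | h1
  · exact h1.not_lt (hm hlt)
  · exact h1.not_lt hBT

variable {k : Type u} [Field k] [IsSepClosed k] {X Y : Scheme.{u}} [IrreducibleSpace X]
  (f : X ⟶ Spec (CommRingCat.of k)) [LocallyOfFiniteType f] [QuasiCompact f]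
  (hdim : topologicalKrullDim X ≤ 1)

include f hdim in
/-- Sheaves supported off a nonempty open subset of a curve have no higher cohomology. -/
theorem subsingleton_H_of_vanish {V : X.Opens} (hV : (V : Set X).Nonempty) (Q : EtCoh.Ab X)
    (hQ : ∀ (Ω : Type u) [Field Ω] [IsSepClosed Ω] (ξ : Spec (CommRingCat.of Ω) ⟶ X),
      ξ.base default ∈ V → IsZero ((stk (A := AddCommGrpCat.{u + 1}) ξ).obj Q)) (q : ℕ) (hq : 1 ≤ q) :
    Subsingleton (EtCoh.H X Q q) := by
  let I := Scheme.IdealSheafData.vanishingIdeal (⟨(V : Set X)ᶜ, V.isOpen.isClosed_compl⟩ : Closeds X)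
  let i := I.subschemeι
  have hr : Set.range i.base = (V : Set X)ᶜ := by
    rw [Scheme.IdealSheafData.range_subschemeι, Scheme.IdealSheafData.coe_support_vanishingIdeal]
    rfl
  have hne : Set.range i.base ≠ Set.univ := by
    obtain ⟨v, hv⟩ := hV
    intro h
    rw [hr] at h
    exact (h ▸ Set.mem_univ v : v ∈ (V : Set X)ᶜ) hv
  have hd := dim_le_zero hdim i.isClosedEmbedding hne
  let a := i ≫ f
  haveI : IsLocallyNoetherian I.subscheme := LocallyOfFiniteType.isLocallyNoetherian a
  haveI : CompactSpace I.subscheme := QuasiCompact.compactSpace_of_compactSpace a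
  haveI := IsLocallyArtinian.of_topologicalKrullDim_le_zero (X := I.subscheme) (by exact_mod_cast hd)
  haveI : Finite I.subscheme := finite_of_compact_of_discrete
  haveI : LocallyQuasiFinite a := LocallyQuasiFinite.of_finite_preimage_singleton _ fun _ => Set.toFinite _
  haveI : IsAffine I.subscheme := inferInstance
  haveI : IsSepClosed (IsLocalRing.ResidueField k) := SkySumLib.isSepClosed_residueField_self k
  haveI : IsFinite a := by
    haveI : IsAffineHom a := inferInstance
    exact IsFinite.of_locallyQuasiFinite a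
  haveI := EtShLib.subsingleton_H_of_finite k I.subscheme a ((EtCoh.pull i).obj Q) q hq
  exact (bijective_Hpull_closed i Q (fun Ω _ _ ξ hξ => hQ Ω ξ (by
    rw [hr] at hξ
    exact not_not.1 hξ)) q).1.subsingleton

include f hdim in
theorem Hpull_finite_modification (ν : Y ⟶ X) [IsFinite ν] [Surjective ν] {V : X.Opens} (hV : (V : Set X).Nonempty)
    [IsIso (ν ∣_ V)] (F : EtCoh.Ab X) :
    (∀ q, 2 ≤ q → Function.Bijective (EtCore.Hpull ν F q)) ∧ Function.Surjective (EtCore.Hpull ν F 1) := by
  let G := (EtCoh.push ν).obj ((EtCoh.pull ν).obj F)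
  let u : F ⟶ G := (EtCoh.pullPushAdj ν).unit.app F
  haveI : Mono u := (mono_iff_stalks (A := AddCommGrpCat.{u + 1}) _).2 fun Ω _ _ ξ => by
    obtain ⟨a, ha⟩ := ν.surjective (ξ.base default)
    obtain ⟨Ω', _, _, t, ht⟩ := exists_geometric_pt a
    obtain ⟨e⟩ := nonempty_stk_iso_of_eq (A := AddCommGrpCat.{u + 1}) (ξ := t ≫ ν) (ξ' := ξ)
      (ha.symm.trans (congrArg ν.base ht.symm))
    haveI : Mono ((stk (A := AddCommGrpCat.{u + 1}) (t ≫ ν)).map u) :=
      (AddCommGrpCat.mono_iff_injective _).2 (ConsEmbedLib.injective_stk_unit ν t F)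
    rw [show (stk (A := AddCommGrpCat.{u + 1}) ξ).map u =
        e.inv.app _ ≫ (stk (A := AddCommGrpCat.{u + 1}) (t ≫ ν)).map u ≫ e.hom.app _
      from (NatIso.naturality_1 e _).symm]
    infer_instance
  let S : ShortComplex (EtCoh.Ab X) := ShortComplex.mk u (cokernel.π u) (cokernel.condition u)
  have hS : S.ShortExact :=
    { exact := ShortComplex.exact_of_g_is_cokernel _ (cokernelIsCokernel u)
      mono_f := inferInstanceAs (Mono u)
      epi_g := inferInstanceAs (Epi (cokernel.π u)) }
  have hQ : ∀ q, 1 ≤ q → Subsingleton (EtCoh.H X S.X₃ q) := subsingleton_H_of_vanish f hdim hV S.X₃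
    fun Ω _ _ ξ hξ => by
      obtain ⟨ζ, hζ, rfl⟩ := exists_point ν V ξ hξ
      haveI := isIso_compare (A := AddCommGrpCat.{u + 1}) ν ζ (refines ν V ζ hζ) ((EtCoh.pull ν).obj F)
      have e : (stk (ζ ≫ ν)).map u ≫ compare ν ζ ((EtCoh.pull ν).obj F) =
          (stalkPull ν ζ AddCommGrpCat.{u + 1}).hom.app F := by
        apply stk_hom_ext
        intro U x
        rw [← Category.assoc, germ_natural, Category.assoc]
        exact (congrArg (_ ≫ ·) (germ_compare ν ζ _ U x)).trans (germ_stalkPull ν ζ _ F U x).symm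
      haveI : IsIso ((stk (ζ ≫ ν)).map u ≫ compare ν ζ ((EtCoh.pull ν).obj F)) := by
        rw [e]; infer_instance
      haveI : IsIso ((stk (A := AddCommGrpCat.{u + 1}) (ζ ≫ ν)).map u) :=
        IsIso.of_isIso_comp_right _ (compare ν ζ ((EtCoh.pull ν).obj F))
      haveI : Epi ((stk (A := AddCommGrpCat.{u + 1}) (ζ ≫ ν)).map (cokernel.π u)) :=
        (stk (A := AddCommGrpCat.{u + 1}) (ζ ≫ ν)).map_epi _
      refine (IsZero.iff_id_eq_zero _).2 ?_
      rw [← cancel_epi ((stk (A := AddCommGrpCat.{u + 1}) (ζ ≫ ν)).map (cokernel.π u)),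
        ← cancel_epi ((stk (A := AddCommGrpCat.{u + 1}) (ζ ≫ ν)).map u), Category.comp_id, comp_zero, ← Functor.map_comp,
        cokernel.condition, Functor.map_zero, comp_zero]
  have hP : ∀ q, Function.Bijective (EtLim.HofPush ν ((EtCoh.pull ν).obj F) q) := fun q =>
    Groth.Agent.S14451.result ν _ (fun j hj => EtShLib.isZero_rightDerived_push_finite ν _ j hj) q
  have e : ∀ q, ⇑(EtCore.Hpull ν F q) = ⇑(EtLim.HofPush ν ((EtCoh.pull ν).obj F) q) ∘ post u q := fun q => by
    funext x
    show EtCore.Hpull ν F q x = (EtCore.Hpull ν G q (x.comp (Ext.mk₀ u) (add_zero q))).comp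
      (Ext.mk₀ ((EtCoh.pullPushAdj ν).counit.app _)) (add_zero q)
    rw [EtAcycLib.Hpull_postcomp, Ext.comp_assoc_of_second_deg_zero, Ext.mk₀_comp_mk₀]
    erw [(EtCoh.pullPushAdj ν).left_triangle_components F]
    rw [Ext.comp_mk₀_id]
  have hsurj : ∀ q, 1 ≤ q → Function.Surjective (post u q) := fun q hq x => by
    haveI := hQ q hq
    exact ((exact_post hS q).1 x).1 (Subsingleton.elim (α := EtCoh.H X S.X₃ q) _ _)
  refine ⟨fun q hq => ?_, ?_⟩
  · rw [e]
    refine (hP q).comp ⟨(injective_iff_map_eq_zero _).2 fun x hx => ?_, hsurj q (by omega)⟩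
    obtain ⟨j, rfl⟩ : ∃ j, q = j + 1 := ⟨q - 1, by omega⟩
    obtain ⟨y, rfl⟩ := ((exact_post hS j).2.2 x).1 hx
    haveI := hQ j (by omega)
    rw [Subsingleton.elim (α := EtCoh.H X S.X₃ j) y 0, map_zero]
  · rw [e]
    exact (hP 1).2.comp (hsurj 1 le_rfl)

end EtBlowSq

end
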