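import Groth.Agent.EtShLib.RestrPull

/-!
# Stalks of direct images over an open subset above which the morphism is an isomorphism
-/

set_option autoImplicit false
set_option linter.unusedSectionVars false
set_option linter.style.haveILetI false
set_option backward.isDefEq.respectTransparency false
set_option backward.isDefEq.respectTransparency.types false
set_option synthInstance.maxHeartbeats 400000
set_option maxHeartbeats 1000000

universe u

open CategoryTheory CategoryTheory.Limits AlgebraicGeometry Opposite Groth.Agent.EtShLib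

namespace EtBlowSq

variable {Z X : Scheme.{u}} (f : Z ⟶ X) (V : X.Opens) [IsIso (f ∣_ V)]

instance isOpenImmersion_ι_comp : IsOpenImmersion ((f ⁻¹ᵁ V).ι ≫ f) := by
  rw [← morphismRestrict_ι]
  infer_instance

theorem exists_point {Ω : Type u} [Field Ω] (ξ : Spec (CommRingCat.of Ω) ⟶ X) (h : ξ.base default ∈ V) :
    ∃ ζ : Spec (CommRingCat.of Ω) ⟶ Z, ζ.base default ∈ f ⁻¹ᵁ V ∧ ζ ≫ f = ξ := by
  let ξ' := IsOpenImmersion.lift V.ι ξ (by
    rintro _ ⟨a, rfl⟩
    rw [Scheme.Opens.range_ι, Subsingleton.elim a default]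
    exact h)
  refine ⟨ξ' ≫ inv (f ∣_ V) ≫ (f ⁻¹ᵁ V).ι, ?_, ?_⟩
  · exact ((ξ' ≫ inv (f ∣_ V)).base default).2
  · rw [Category.assoc, Category.assoc, ← morphismRestrict_ι, IsIso.inv_hom_id_assoc, IsOpenImmersion.lift_fac]

theorem refines {Ω : Type u} [Field Ω] [IsSepClosed Ω] (ξ : Spec (CommRingCat.of Ω) ⟶ Z)
    (hξ : ξ.base default ∈ f ⁻¹ᵁ V) : Refines f ξ := by
  intro U u W g w hw
  haveI : AlgebraicGeometry.Etale W.hom := W.prop
  let O := f ⁻¹ᵁ V
  let W' := W.hom ⁻¹ᵁ O
  let c := W.hom ∣_ O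
  have hc : c ≫ O.ι = W'.ι ≫ W.hom := morphismRestrict_ι _ _
  haveI : AlgebraicGeometry.Etale c := IsZariskiLocalAtTarget.restrict (P := @AlgebraicGeometry.Etale) ‹_› O
  let U'' : X.Etale := MorphismProperty.Over.mk _ (c ≫ O.ι ≫ f) inferInstance
  have hg : g.left ≫ (pullback.fst U.hom f : ((EtCoh.bc f).obj U).left ⟶ U.left) ≫ U.hom = W.hom ≫ f := by
    rw [← MorphismProperty.Over.w g, Category.assoc]
    exact congrArg (g.left ≫ ·) pullback.condition
  let kk : U'' ⟶ U := MorphismProperty.Over.homMk (W'.ι ≫ g.left ≫ pullback.fst U.hom f) (by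
    show (W'.ι ≫ g.left ≫ pullback.fst U.hom f) ≫ U.hom = c ≫ O.ι ≫ f
    rw [Category.assoc, Category.assoc, hg, ← Category.assoc c, hc, Category.assoc])
  let p₁ : ((EtCoh.bc f).obj U'').left ⟶ (W' : Scheme.{u}) := pullback.fst U''.hom f
  let p : ((EtCoh.bc f).obj U'').left ⟶ W.left := p₁ ≫ W'.ι
  have hp : p ≫ W.hom = pullback.snd U''.hom f := by
    have hr : Set.range (pullback.snd U''.hom f).base ⊆ Set.range O.ι.base := by
      rintro _ ⟨a, rfl⟩
      rw [Scheme.Opens.range_ι]
      show f.base _ ∈ V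
      have e : f.base ((pullback.snd U''.hom f).base a) = f.base (O.ι.base (c.base (p₁.base a))) :=
        congrArg (fun t : pullback U''.hom f ⟶ X => t.base a) pullback.condition.symm
      rw [e]
      exact (c.base (p₁.base a)).2
    let a := IsOpenImmersion.lift O.ι (pullback.snd U''.hom f) hr
    have ha : a ≫ O.ι = pullback.snd U''.hom f := IsOpenImmersion.lift_fac _ _ _
    rw [Category.assoc, ← hc, ← ha, ← Category.assoc]
    refine congrArg (· ≫ O.ι) ?_
    rw [← cancel_mono (O.ι ≫ f), Category.assoc]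
    exact pullback.condition.trans (congrArg (· ≫ f) ha.symm) |>.trans (Category.assoc _ _ _)
  let h : (EtCoh.bc f).obj U'' ⟶ W := MorphismProperty.Over.homMk p hp
  let w' := IsOpenImmersion.lift W'.ι w.hom (by
    rintro _ ⟨a, rfl⟩
    rw [Scheme.Opens.range_ι, Subsingleton.elim a default]
    show W.hom.base (w.hom.base default) ∈ O
    rw [show W.hom.base (w.hom.base default) = ξ.base default from congrArg (fun t => t.base default) w.w]
    exact hξ)
  have hw' : w' ≫ W'.ι = w.hom := IsOpenImmersion.lift_fac _ _ _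
  let u' : Fib (ξ ≫ f) U'' := Fib.mk w' (by
    show w' ≫ c ≫ O.ι ≫ f = ξ ≫ f
    rw [← Category.assoc c, hc, Category.assoc, ← Category.assoc w', hw', ← Category.assoc, w.w])
  refine ⟨U'', kk, u', h, ?_, Fib.ext ?_, ?_⟩
  · apply Fib.ext
    show w' ≫ W'.ι ≫ g.left ≫ pullback.fst U.hom f = u.hom
    rw [← Category.assoc, hw', ← Category.assoc]
    refine (congrArg (fun t : Fib ξ ((EtCoh.bc f).obj U) => t.hom ≫ pullback.fst U.hom f) hw).trans ?_
    exact pullback.lift_fst _ _ _
  · show (u'.lift f ξ).hom ≫ p₁ ≫ W'.ι = w.hom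
    rw [← hw', ← Category.assoc]
    exact congrArg (· ≫ W'.ι) (pullback.lift_fst _ _ _)
  · apply MorphismProperty.Over.Hom.ext
    show p ≫ g.left = ((EtCoh.bc f).map kk).left
    apply pullback.hom_ext
    · refine (Category.assoc _ _ _).trans ((Category.assoc _ _ _).trans ?_)
      exact (EtCoh.isPullback_bc_map f kk).w.symm
    · refine (Category.assoc _ _ _).trans ((congrArg (p ≫ ·) (MorphismProperty.Over.w g)).trans (hp.trans ?_))
      exact (MorphismProperty.Over.w ((EtCoh.bc f).map kk)).symm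

end EtBlowSq
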