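import Groth.Agent.EtBlowSqLib.Refines
import Groth.Agent.EtAcycLib.Chase
import Groth.Agent.CovDevLib.Base
import Groth.Agent.EtShLib.Generate
import Groth.Agent.EtShLib.FiniteExact
import Groth.Agent.EtShLib.FiniteStrict
import Groth.Agent.EtPBCProperLib.Stalk
import Groth.Agent.CdCurveLib.PushPt
import Groth.Agent.S14451

/-!
# The long exact sequence of an abstract blow-up square in étale cohomology
-/

set_option autoImplicit false
set_option linter.unusedSectionVars false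
set_option linter.style.haveILetI false
set_option backward.isDefEq.respectTransparency false
set_option backward.isDefEq.respectTransparency.types false
set_option synthInstance.maxHeartbeats 400000
set_option maxHeartbeats 2000000

universe u

open CategoryTheory CategoryTheory.Limits CategoryTheory.Abelian AlgebraicGeometry Opposite
open Groth.Agent Groth.Agent.EtShLib

attribute [local instance] CategoryTheory.Abelian.hasFiniteBiproducts EtSliceLib.pullExact

noncomputable section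

namespace EtBlowSq

theorem subsingleton_H_of_isZero {X : Scheme.{u}} {F : EtCoh.Ab X} (h : IsZero F) (n : ℕ) :
    Subsingleton (EtCoh.H X F n) := ⟨fun a b => by
  rw [← Ext.comp_mk₀_id a, ← Ext.comp_mk₀_id b, h.eq_of_src (𝟙 F) 0, Ext.mk₀_zero, Ext.comp_zero, Ext.comp_zero]⟩

theorem isZero_of_stalks {X : Scheme.{u}} (G : EtCoh.Ab X)
    (h : ∀ (Ω : Type u) [Field Ω] [IsSepClosed Ω] (ξ : Spec (CommRingCat.of Ω) ⟶ X),
      IsZero ((stk (A := AddCommGrpCat.{u + 1}) ξ).obj G)) : IsZero G := by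
  haveI : IsIso (0 : G ⟶ G) := isIso_of_stalks (A := AddCommGrpCat.{u + 1}) _ fun Ω _ _ ξ =>
    ⟨0, (h Ω ξ).eq_of_src _ _, (h Ω ξ).eq_of_src _ _⟩
  rw [IsZero.iff_id_eq_zero, ← cancel_mono (0 : G ⟶ G)]
  simp

theorem isTorsion_of_mono {X : Scheme.{u}} {A B : EtCoh.Ab X} (f : A ⟶ B) [Mono f] (hB : EtCoh.IsTorsion B) :
    EtCoh.IsTorsion A := by
  refine CdCurveLib.isTorsion_of_torsionBy fun Ω _ _ ξ p => ?_
  obtain ⟨m, hm, hp⟩ := torsionBy_of_isTorsion hB Ω ξ ((stk (A := AddCommGrpCat.{u + 1}) ξ).map f p)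
  refine ⟨m, hm, (AddCommGrpCat.mono_iff_injective ((stk (A := AddCommGrpCat.{u + 1}) ξ).map f)).1 inferInstance ?_⟩
  rw [map_nsmul, hp, map_zero]

/-- Pullback on cohomology is bijective for a sheaf which is its own derived direct image. -/
theorem bijective_Hpull_of_unit {X Y : Scheme.{u}} (f : X ⟶ Y) (G : EtCoh.Ab Y)
    [IsIso ((EtCoh.pullPushAdj f).unit.app G)]
    (hR : ∀ q, 0 < q → IsZero ((EtCoh.Rpush f q).obj ((EtCoh.pull f).obj G))) (p : ℕ) :
    Function.Bijective (EtCore.Hpull f G p) := by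
  have e : ⇑(EtCore.Hpull f G p) = ⇑(EtLim.HofPush f ((EtCoh.pull f).obj G) p) ∘
      fun x : EtCoh.H Y G p => x.comp (Ext.mk₀ (asIso ((EtCoh.pullPushAdj f).unit.app G)).hom) (add_zero p) := by
    funext x
    show EtCore.Hpull f G p x = (EtCore.Hpull f _ p (x.comp (Ext.mk₀ ((EtCoh.pullPushAdj f).unit.app G)) (add_zero p))).comp
      (Ext.mk₀ ((EtCoh.pullPushAdj f).counit.app _)) (add_zero p)
    rw [EtAcycLib.Hpull_postcomp, Ext.comp_assoc_of_second_deg_zero, Ext.mk₀_comp_mk₀]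
    erw [(EtCoh.pullPushAdj f).left_triangle_components G]
    rw [Ext.comp_mk₀_id]
  rw [e]
  exact (Groth.Agent.S14451.result f _ hR p).comp (EtAcycLib.bijective_mk₀_iso_postcomp _ p)

theorem stalkPull_zero {X Y : Scheme.{u}} (f : X ⟶ Y) (G : EtCoh.Ab Y) {Ω : Type u} [Field Ω] [IsSepClosed Ω]
    (ξ : Spec (CommRingCat.of Ω) ⟶ X) (h : IsZero ((stk (A := AddCommGrpCat.{u + 1}) (ξ ≫ f)).obj G)) :
    IsZero ((stk (A := AddCommGrpCat.{u + 1}) ξ).obj ((EtCoh.pull f).obj G)) :=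
  IsZero.of_iso h ((stalkPull f ξ AddCommGrpCat.{u + 1}).app G).symm

/-- A sheaf with stalks zero off a closed subscheme is the direct image of its restriction. -/
theorem isIso_unit_closed {Z X : Scheme.{u}} (i : Z ⟶ X) [IsClosedImmersion i] (G : EtCoh.Ab X)
    (hG : ∀ (Ω : Type u) [Field Ω] [IsSepClosed Ω] (ξ : Spec (CommRingCat.of Ω) ⟶ X),
      ξ.base default ∉ Set.range i.base → IsZero ((stk (A := AddCommGrpCat.{u + 1}) ξ).obj G)) :
    IsIso ((EtCoh.pullPushAdj i).unit.app G) :=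
  isIso_of_stalks (A := AddCommGrpCat.{u + 1}) _ fun Ω _ _ ξ => by
    by_cases hξ : ξ.base default ∈ Set.range i.base
    · obtain ⟨ζ, rfl⟩ := exists_factor i ξ hξ
      exact isIso_unit_stalk_closed i G ζ
    · haveI := subsingleton_push_stalk i ((EtCoh.pull i).obj G) ξ hξ
      exact isIso_of_source_target_iso_zero _ (hG Ω ξ hξ).isoZero (AddCommGrpCat.isZero_of_subsingleton
        ((stk (A := AddCommGrpCat.{u + 1}) ξ).obj ((EtCoh.push i).obj ((EtCoh.pull i).obj G)))).isoZero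

theorem bijective_Hpull_closed {Z X : Scheme.{u}} (i : Z ⟶ X) [IsClosedImmersion i] (G : EtCoh.Ab X)
    (hG : ∀ (Ω : Type u) [Field Ω] [IsSepClosed Ω] (ξ : Spec (CommRingCat.of Ω) ⟶ X),
      ξ.base default ∉ Set.range i.base → IsZero ((stk (A := AddCommGrpCat.{u + 1}) ξ).obj G)) (p : ℕ) :
    Function.Bijective (EtCore.Hpull i G p) := by
  haveI := isIso_unit_closed i G hG
  exact bijective_Hpull_of_unit i G (fun q hq => EtShLib.isZero_rightDerived_push_finite i _ q hq) p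

section Proper

variable {X X' Z : Scheme.{u}} (b : X' ⟶ X) [IsProper b] (i : Z ⟶ X) [IsClosedImmersion i] (V : X.Opens)
  (hV : ∀ x : X, x ∈ V ↔ x ∉ Set.range i.base) [IsIso (b ∣_ V)]
  (K : EtCoh.Ab X) (hK : EtCoh.IsTorsion K) (hK0 : IsZero ((EtCoh.pull i).obj K))

include hK0 in
theorem subsingleton_H_fibre {Ω : Type u} [Field Ω] [IsSepClosed Ω] (ξ : Spec (CommRingCat.of Ω) ⟶ X)
    (hξ : ξ.base default ∈ Set.range i.base) (n : ℕ) :
    Subsingleton (EtCoh.H (pullback b ξ) ((EtCoh.pull (pullback.fst b ξ)).obj ((EtCoh.pull b).obj K)) n) := by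
  obtain ⟨ζ, rfl⟩ := exists_factor i ξ hξ
  refine subsingleton_H_of_isZero ?_ n
  have w : pullback.fst b (ζ ≫ i) ≫ b = (pullback.snd b (ζ ≫ i) ≫ ζ) ≫ i :=
    pullback.condition.trans (Category.assoc _ _ _).symm
  exact IsZero.of_iso ((EtCoh.pull _).map_isZero hK0)
    (((EtCore.pullComp _ b).symm ≪≫ EtCore.pullCongr w ≪≫ EtCore.pullComp _ i).app K)

include hV in
theorem isIso_fibre_snd {Ω : Type u} [Field Ω] (ξ : Spec (CommRingCat.of Ω) ⟶ X)
    (hξ : ξ.base default ∉ Set.range i.base) : IsIso (pullback.snd b ξ) := by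
  obtain ⟨ζ, -, hζ'⟩ := exists_point b V ξ ((hV _).2 hξ)
  let s : Spec (CommRingCat.of Ω) ⟶ pullback b ξ := pullback.lift ζ (𝟙 _) (by rw [hζ', Category.id_comp])
  have hfac : ∀ {T : Scheme.{u}} (a : T ⟶ pullback b ξ), ∃ a' : T ⟶ (b ⁻¹ᵁ V : Scheme.{u}),
      a' ≫ (b ⁻¹ᵁ V).ι = a ≫ pullback.fst b ξ := fun a =>
    ⟨IsOpenImmersion.lift (b ⁻¹ᵁ V).ι (a ≫ pullback.fst b ξ) (by
      rintro _ ⟨t, rfl⟩
      rw [Scheme.Opens.range_ι]
      show b.base _ ∈ V
      have e : b.base ((a ≫ pullback.fst b ξ).base t) = ξ.base ((a ≫ pullback.snd b ξ).base t) :=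
        congrArg (fun m => m.base t) ((Category.assoc _ _ _).trans ((congrArg (a ≫ ·) pullback.condition).trans
          (Category.assoc _ _ _).symm))
      rw [e, Subsingleton.elim ((a ≫ pullback.snd b ξ).base t) default]
      exact (hV _).2 hξ), IsOpenImmersion.lift_fac _ _ _⟩
  refine ⟨s, ?_, pullback.lift_snd _ _ _⟩
  apply pullback.hom_ext
  · obtain ⟨a₁, ha₁⟩ := hfac (pullback.snd b ξ ≫ s)
    obtain ⟨a₂, ha₂⟩ := hfac (𝟙 (pullback b ξ))
    rw [← ha₁, ← ha₂]
    refine congrArg (· ≫ (b ⁻¹ᵁ V).ι) ((cancel_mono ((b ⁻¹ᵁ V).ι ≫ b)).1 ?_)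
    rw [← Category.assoc, ← Category.assoc, ha₁, ha₂, Category.assoc, Category.assoc, Category.assoc, Category.id_comp]
    rw [pullback.lift_fst_assoc, hζ', pullback.condition]
  · rw [Category.assoc, pullback.lift_snd, Category.comp_id, Category.id_comp]

include hV hK hK0 in
theorem isZero_Rpush_pull (q : ℕ) (hq : 0 < q) : IsZero ((EtCoh.Rpush b q).obj ((EtCoh.pull b).obj K)) := by
  refine isZero_of_stalks _ fun Ω _ _ ξ => ?_
  obtain ⟨e⟩ := EtPBCProperLib.nonempty_stalk_iso b ξ _ (CdCurveLib.isTorsion_pull_map b hK) q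
  haveI : Subsingleton (EtCoh.H (pullback b ξ) ((EtCoh.pull (pullback.fst b ξ)).obj ((EtCoh.pull b).obj K)) q) := by
    by_cases hξ : ξ.base default ∈ Set.range i.base
    · exact subsingleton_H_fibre b i K hK0 ξ hξ q
    · haveI := isIso_fibre_snd b i V hV ξ hξ
      haveI : IsSepClosed (IsLocalRing.ResidueField Ω) := SkySumLib.isSepClosed_residueField_self Ω
      exact EtShLib.subsingleton_H_of_finite Ω _ (pullback.snd b ξ) _ q hq
  exact IsZero.of_iso (AddCommGrpCat.isZero_of_subsingleton _) e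

include hV hK hK0 in
theorem isIso_unit_proper : IsIso ((EtCoh.pullPushAdj b).unit.app K) := by
  refine isIso_of_stalks (A := AddCommGrpCat.{u + 1}) _ fun Ω _ _ ξ => ?_
  by_cases hξ : ξ.base default ∈ Set.range i.base
  · haveI := subsingleton_H_fibre b i K hK0 ξ hξ 0
    obtain ⟨e⟩ := EtPBCProperLib.nonempty_stalk_iso b ξ _ (CdCurveLib.isTorsion_pull_map b hK) 0
    haveI : (EtCoh.push b).Additive := { }
    haveI : PreservesLimitsOfSize.{0, 0} (EtCoh.push b) := (EtCoh.pullPushAdj b).rightAdjoint_preservesLimits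
    haveI : PreservesFiniteLimits (EtCoh.push b) := PreservesLimitsOfSize.preservesFiniteLimits _
    have h2 : IsZero ((stk (A := AddCommGrpCat.{u + 1}) ξ).obj ((EtCoh.push b).obj ((EtCoh.pull b).obj K))) :=
      IsZero.of_iso (IsZero.of_iso (AddCommGrpCat.isZero_of_subsingleton (AddCommGrpCat.of
          (EtCoh.H (pullback b ξ) ((EtCoh.pull (pullback.fst b ξ)).obj ((EtCoh.pull b).obj K)) 0))) e)
        ((stk (A := AddCommGrpCat.{u + 1}) ξ).mapIso ((EtCoh.push b).rightDerivedZeroIsoSelf.app _).symm)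
    obtain ⟨ζ, rfl⟩ := exists_factor i ξ hξ
    have h1 : IsZero ((stk (A := AddCommGrpCat.{u + 1}) (ζ ≫ i)).obj K) :=
      IsZero.of_iso ((stk (A := AddCommGrpCat.{u + 1}) ζ).map_isZero hK0) ((stalkPull i ζ AddCommGrpCat.{u + 1}).app K)
    exact isIso_of_source_target_iso_zero _ h1.isoZero h2.isoZero
  · obtain ⟨ζ, hζ, rfl⟩ := exists_point b V ξ ((hV _).2 hξ)
    haveI := isIso_compare (A := AddCommGrpCat.{u + 1}) b ζ (refines b V ζ hζ) ((EtCoh.pull b).obj K)
    have e : (stk (ζ ≫ b)).map ((EtCoh.pullPushAdj b).unit.app K) ≫ compare b ζ ((EtCoh.pull b).obj K) =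
        (stalkPull b ζ AddCommGrpCat.{u + 1}).hom.app K := by
      apply stk_hom_ext
      intro U u
      rw [← Category.assoc, germ_natural, Category.assoc]
      exact (congrArg (_ ≫ ·) (germ_compare b ζ _ U u)).trans (germ_stalkPull b ζ _ K U u).symm
    haveI : IsIso ((stk (ζ ≫ b)).map ((EtCoh.pullPushAdj b).unit.app K) ≫ compare b ζ ((EtCoh.pull b).obj K)) := by
      rw [e]; infer_instance
    exact IsIso.of_isIso_comp_right _ (compare b ζ ((EtCoh.pull b).obj K))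

include hV hK hK0 in
theorem bijective_Hpull_proper (p : ℕ) : Function.Bijective (EtCore.Hpull b K p) := by
  haveI := isIso_unit_proper b i V hV K hK hK0
  exact bijective_Hpull_of_unit b K (isZero_Rpush_pull b i V hV K hK hK0) p

end Proper

theorem HpullVia_comp {X Y Z : Scheme.{u}} (f : X ⟶ Y) (t : Y ⟶ Z) (f₀ : X ⟶ Z) (w : f ≫ t = f₀) (G : EtCoh.Ab Z)
    (p : ℕ) (x : EtCoh.H Z G p) :
    EtCore.HpullVia f t f₀ w G p (EtCore.Hpull t G p x) = EtCore.Hpull f₀ G p x := by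
  show (EtCore.Hpull f _ p (EtCore.Hpull t G p x)).comp
    (Ext.mk₀ (((EtCore.pullComp f t).symm ≪≫ EtCore.pullCongr w).app G).hom) (add_zero p) = _
  rw [EtSliceLib.pullComp_inv_eq]
  exact CovDevLib.Hpull_comp f t f₀ w G p x

theorem HpullVia_postcomp {X Y Z : Scheme.{u}} (f : X ⟶ Y) (t : Y ⟶ Z) (f₀ : X ⟶ Z) (w : f ≫ t = f₀)
    {G G' : EtCoh.Ab Z} (φ : G ⟶ G') (p : ℕ) (y : EtCoh.H Y ((EtCoh.pull t).obj G) p) :
    EtCore.HpullVia f t f₀ w G' p (y.comp (Ext.mk₀ ((EtCoh.pull t).map φ)) (add_zero p)) =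
      (EtCore.HpullVia f t f₀ w G p y).comp (Ext.mk₀ ((EtCoh.pull f₀).map φ)) (add_zero p) := by
  show (EtCore.Hpull f _ p (y.comp (Ext.mk₀ ((EtCoh.pull t).map φ)) (add_zero p))).comp
      (Ext.mk₀ (((EtCore.pullComp f t).symm ≪≫ EtCore.pullCongr w).app G').hom) (add_zero p) =
    ((EtCore.Hpull f _ p y).comp (Ext.mk₀ (((EtCore.pullComp f t).symm ≪≫ EtCore.pullCongr w).app G).hom) (add_zero p)).comp
      (Ext.mk₀ ((EtCoh.pull f₀).map φ)) (add_zero p)
  rw [EtAcycLib.Hpull_postcomp, Ext.comp_assoc_of_second_deg_zero, Ext.comp_assoc_of_second_deg_zero,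
    Ext.mk₀_comp_mk₀, Ext.mk₀_comp_mk₀]
  exact congrArg (fun t => Ext.comp (EtCore.Hpull f _ p y) (Ext.mk₀ t) (add_zero p))
    (((EtCore.pullComp f t).symm ≪≫ EtCore.pullCongr w).hom.naturality φ)

/-- Composition with a morphism of sheaves. -/
def post {X : Scheme.{u}} {A B : EtCoh.Ab X} (φ : A ⟶ B) (n : ℕ) : EtCoh.H X A n →+ EtCoh.H X B n :=
  AddMonoidHom.mk' (fun x => x.comp (Ext.mk₀ φ) (add_zero n)) fun _ _ => Ext.add_comp _ _ _ _

theorem bijective_post {X : Scheme.{u}} {A B : EtCoh.Ab X} (φ : A ⟶ B) [IsIso φ] (n : ℕ) :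
    Function.Bijective (post φ n) :=
  EtAcycLib.bijective_mk₀_iso_postcomp (asIso φ) n

/-- The boundary map of a short exact sequence. -/
def bdy {X : Scheme.{u}} {S : ShortComplex (EtCoh.Ab X)} (hS : S.ShortExact) (n : ℕ) :
    EtCoh.H X S.X₃ n →+ EtCoh.H X S.X₁ (n + 1) :=
  AddMonoidHom.mk' (fun x => x.comp hS.extClass rfl) fun _ _ => Ext.add_comp _ _ _ _

/-- The Mayer-Vietoris sequence of a morphism of long exact sequences which is bijective in every third degree. -/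
theorem ladder {A B C A' B' C' Z W : ℕ → Type (u + 1)} [∀ p, AddCommGroup (A p)] [∀ p, AddCommGroup (B p)]
    [∀ p, AddCommGroup (C p)] [∀ p, AddCommGroup (A' p)] [∀ p, AddCommGroup (B' p)] [∀ p, AddCommGroup (C' p)]
    [∀ p, AddCommGroup (Z p)] [∀ p, AddCommGroup (W p)]
    (a : ∀ p, A p →+ B p) (j : ∀ p, B p →+ C p) (d : ∀ p, C p →+ A (p + 1))
    (a' : ∀ p, A' p →+ B' p) (j' : ∀ p, B' p →+ C' p) (d' : ∀ p, C' p →+ A' (p + 1))
    (α : ∀ p, A p →+ A' p) (β : ∀ p, B p →+ B' p) (γ : ∀ p, C p →+ C' p)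
    (hα : ∀ p, Function.Bijective (α p))
    (θ : ∀ p, C p →+ Z p) (hθ : ∀ p, Function.Bijective (θ p))
    (θ' : ∀ p, C' p →+ W p) (hθ' : ∀ p, Function.Bijective (θ' p))
    (pI : ∀ p, B p →+ Z p) (v : ∀ p, B' p →+ W p) (w : ∀ p, Z p →+ W p)
    (hI : ∀ p x, θ p (j p x) = pI p x) (hv : ∀ p x, θ' p (j' p x) = v p x)
    (hw : ∀ p x, θ' p (γ p x) = w p (θ p x))
    (sa : ∀ p x, β p (a p x) = a' p (α p x)) (sj : ∀ p x, γ p (j p x) = j' p (β p x))
    (sd : ∀ p x, α (p + 1) (d p x) = d' p (γ p x))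
    (e₂ : ∀ p, Function.Exact (a p) (j p)) (e₃ : ∀ p, Function.Exact (j p) (d p))
    (e₁ : ∀ p, Function.Exact (d p) (a (p + 1)))
    (e₂' : ∀ p, Function.Exact (a' p) (j' p)) (e₃' : ∀ p, Function.Exact (j' p) (d' p))
    (e₁' : ∀ p, Function.Exact (d' p) (a' (p + 1))) (h0 : Function.Injective (a' 0)) :
    ∃ δ : ∀ p, W p →+ B (p + 1), Function.Injective (fun e : B 0 => (β 0 e, pI 0 e)) ∧
      ∀ p, Function.Exact (fun e : B p => (β p e, pI p e)) (fun uv : B' p × Z p => v p uv.1 - w p uv.2) ∧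
        Function.Exact (fun uv : B' p × Z p => v p uv.1 - w p uv.2) (δ p) ∧
        Function.Exact (δ p) (fun e : B (p + 1) => (β (p + 1) e, pI (p + 1) e)) := by
  let α' := fun p => AddEquiv.ofBijective (α p) (hα p)
  let τ := fun p => AddEquiv.ofBijective (θ' p) (hθ' p)
  have hja : ∀ p x, j p (a p x) = 0 := fun p x => (e₂ p _).2 ⟨x, rfl⟩
  have hαs : ∀ p x, α p ((α' p).symm x) = x := fun p x => (α' p).apply_symm_apply x
  have hαs' : ∀ p x, (α' p).symm (α p x) = x := fun p x => (α' p).symm_apply_apply x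
  have hτs : ∀ p x, (τ p).symm (θ' p x) = x := fun p x => (τ p).symm_apply_apply x
  let δ : ∀ p, W p →+ B (p + 1) := fun p =>
    (a (p + 1)).comp ((α' (p + 1)).symm.toAddMonoidHom.comp ((d' p).comp (τ p).symm.toAddMonoidHom))
  have hδ : ∀ p y, δ p (θ' p y) = a (p + 1) ((α' (p + 1)).symm (d' p y)) := fun p y => by
    show a (p + 1) ((α' (p + 1)).symm (d' p ((τ p).symm (θ' p y)))) = _
    rw [hτs]
  refine ⟨δ, ?_, fun p => ⟨?_, ?_, ?_⟩⟩
  · intro x y h
    obtain ⟨hb, hi⟩ := Prod.mk.inj h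
    have h1 : j 0 (x - y) = 0 := (hθ 0).1 (by rw [hI, map_sub, hi, sub_self, map_zero])
    obtain ⟨k, hk⟩ := (e₂ 0 _).1 h1
    have h2 : α 0 k = 0 := h0 (by rw [← sa, hk, map_sub, hb, sub_self, map_zero])
    have h3 : k = 0 := (hα 0).1 (h2.trans (map_zero _).symm)
    rw [h3, map_zero] at hk
    exact sub_eq_zero.1 hk.symm
  · rintro ⟨u', z⟩
    constructor
    · intro h
      have h' : v p u' = w p z := sub_eq_zero.1 h
      obtain ⟨x, rfl⟩ := (hθ p).2 z
      have hju : j' p u' = γ p x := (hθ' p).1 (by rw [hv, hw, h'])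
      have hdx : d p x = 0 := (hα (p + 1)).1 (by
        rw [sd, ← hju, map_zero]
        exact (e₃' p _).2 ⟨u', rfl⟩)
      obtain ⟨e₀, he₀⟩ := (e₃ p _).1 hdx
      obtain ⟨k', hk'⟩ := (e₂' p (u' - β p e₀)).1 (by rw [map_sub, hju, ← sj, he₀, sub_self])
      obtain ⟨k, rfl⟩ := (hα p).2 k'
      refine ⟨e₀ + a p k, Prod.ext ?_ ?_⟩
      · show β p (e₀ + a p k) = u'
        rw [map_add, sa, hk']
        exact add_sub_cancel _ _
      · show pI p (e₀ + a p k) = θ p x
        rw [← hI, map_add, hja, add_zero, he₀]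
    · rintro ⟨e, he⟩
      obtain ⟨rfl, rfl⟩ := Prod.mk.inj he
      show v p (β p e) - w p (pI p e) = 0
      rw [← hv, ← sj, hw, hI, sub_self]
  · intro z
    constructor
    · intro hz
      obtain ⟨y, rfl⟩ := (hθ' p).2 z
      rw [hδ] at hz
      obtain ⟨x, hx⟩ := (e₁ p _).1 hz
      obtain ⟨u', hu'⟩ := (e₃' p (y - γ p x)).1 (by rw [map_sub, ← sd, hx, hαs, sub_self])
      refine ⟨(u', -(θ p x)), ?_⟩
      show v p u' - w p (-(θ p x)) = θ' p y
      rw [← hv, hu', map_sub, hw, map_neg, sub_neg_eq_add, sub_add_cancel]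
    · rintro ⟨⟨u', z⟩, rfl⟩
      obtain ⟨x, rfl⟩ := (hθ p).2 z
      show δ p (v p u' - w p (θ p x)) = 0
      rw [← hv, ← hw, ← map_sub, hδ, map_sub, show d' p (j' p u') = 0 from (e₃' p _).2 ⟨u', rfl⟩, zero_sub, ← sd,
        map_neg, hαs', map_neg, neg_eq_zero]
      exact (e₁ p _).2 ⟨x, rfl⟩
  · intro e
    constructor
    · intro he
      obtain ⟨hb, hi⟩ := Prod.mk.inj he
      obtain ⟨k, hk⟩ := (e₂ (p + 1) e).1 ((hθ (p + 1)).1 (by rw [hI, map_zero]; exact hi))
      obtain ⟨y, hy⟩ := (e₁' p (α (p + 1) k)).1 (by rw [← sa, hk]; exact hb)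
      refine ⟨θ' p y, ?_⟩
      rw [hδ, hy, hαs', hk]
    · rintro ⟨z, rfl⟩
      obtain ⟨y, rfl⟩ := (hθ' p).2 z
      refine Prod.ext ?_ ?_
      · show β (p + 1) (δ p (θ' p y)) = 0
        rw [hδ, sa, hαs]
        exact (e₁' p _).2 ⟨y, rfl⟩
      · show pI (p + 1) (δ p (θ' p y)) = 0
        rw [hδ, ← hI, hja, map_zero]

theorem exact_post {X : Scheme.{u}} {S : ShortComplex (EtCoh.Ab X)} (hS : S.ShortExact) (p : ℕ) :
    Function.Exact (post S.f p) (post S.g p) ∧ Function.Exact (post S.g p) (bdy hS p) ∧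
      Function.Exact (bdy hS p) (post S.f (p + 1)) := by
  refine ⟨fun x => ⟨fun h => Ext.covariant_sequence_exact₂ _ hS x h, ?_⟩,
    fun x => ⟨fun h => Ext.covariant_sequence_exact₃ _ hS x rfl h, ?_⟩,
    fun x => ⟨fun h => Ext.covariant_sequence_exact₁ _ hS x h rfl, ?_⟩⟩
  · rintro ⟨y, rfl⟩
    show (y.comp (Ext.mk₀ S.f) (add_zero p)).comp (Ext.mk₀ S.g) (add_zero p) = 0
    rw [Ext.comp_assoc_of_second_deg_zero, Ext.mk₀_comp_mk₀, S.zero, Ext.mk₀_zero, Ext.comp_zero]
  · rintro ⟨y, rfl⟩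
    show (y.comp (Ext.mk₀ S.g) (add_zero p)).comp hS.extClass rfl = 0
    rw [Ext.comp_assoc_of_second_deg_zero, ShortComplex.ShortExact.comp_extClass hS, Ext.comp_zero]
  · rintro ⟨y, rfl⟩
    show (y.comp hS.extClass rfl).comp (Ext.mk₀ S.f) (add_zero _) = 0
    rw [Ext.comp_assoc_of_third_deg_zero, ShortComplex.ShortExact.extClass_comp hS, Ext.comp_zero]

/-- **The long exact sequence of an abstract blow-up square.** -/
theorem main {X X' Z : Scheme.{u}} (b : X' ⟶ X) [IsProper b] (i : Z ⟶ X) [IsClosedImmersion i] (V : X.Opens)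
    (hV : ∀ x : X, x ∈ V ↔ x ∉ Set.range i.base) [IsIso (b ∣_ V)] (F : EtCoh.Ab X) (hF : EtCoh.IsTorsion F) :
    ∃ δ : ∀ p : ℕ, EtCoh.H (pullback b i) ((EtCoh.pull (pullback.fst b i ≫ b)).obj F) p →+ EtCoh.H X F (p + 1),
      Function.Injective (fun e : EtCoh.H X F 0 => (EtCore.Hpull b F 0 e, EtCore.Hpull i F 0 e)) ∧
      ∀ p : ℕ,
        Function.Exact
          (fun e : EtCoh.H X F p => (EtCore.Hpull b F p e, EtCore.Hpull i F p e))
          (fun uv : EtCoh.H X' ((EtCoh.pull b).obj F) p × EtCoh.H Z ((EtCoh.pull i).obj F) p =>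
            EtCore.HpullVia (pullback.fst b i) b (pullback.fst b i ≫ b) rfl F p uv.1 -
            EtCore.HpullVia (pullback.snd b i) i (pullback.fst b i ≫ b) pullback.condition.symm F p uv.2) ∧
        Function.Exact
          (fun uv : EtCoh.H X' ((EtCoh.pull b).obj F) p × EtCoh.H Z ((EtCoh.pull i).obj F) p =>
            EtCore.HpullVia (pullback.fst b i) b (pullback.fst b i ≫ b) rfl F p uv.1 -
            EtCore.HpullVia (pullback.snd b i) i (pullback.fst b i ≫ b) pullback.condition.symm F p uv.2)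
          (δ p) ∧
        Function.Exact (δ p)
          (fun e : EtCoh.H X F (p + 1) => (EtCore.Hpull b F (p + 1) e, EtCore.Hpull i F (p + 1) e)) := by
  let M := (EtCoh.push i).obj ((EtCoh.pull i).obj F)
  let u : F ⟶ M := (EtCoh.pullPushAdj i).unit.app F
  let k₁ := pullback.fst b i
  let k₂ := pullback.snd b i
  let c := k₁ ≫ b
  have hM0 : ∀ (Ω : Type u) [Field Ω] [IsSepClosed Ω] (ξ : Spec (CommRingCat.of Ω) ⟶ X),
      ξ.base default ∉ Set.range i.base → IsZero ((stk (A := AddCommGrpCat.{u + 1}) ξ).obj M) := fun Ω _ _ ξ hξ => by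
    haveI := subsingleton_push_stalk i ((EtCoh.pull i).obj F) ξ hξ
    exact AddCommGrpCat.isZero_of_subsingleton _
  haveI : Epi u := epi_of_stalks _ fun Ω _ _ ξ => by
    haveI : Epi ((stk (A := AddCommGrpCat.{u + 1}) ξ).map u) := by
      by_cases hξ : ξ.base default ∈ Set.range i.base
      · obtain ⟨ζ, rfl⟩ := exists_factor i ξ hξ
        haveI := isIso_unit_stalk_closed i F ζ
        infer_instance
      · exact ⟨fun g h _ => (hM0 Ω ξ hξ).eq_of_src g h⟩
    refine (IsZero.iff_id_eq_zero _).2 ?_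
    haveI : Epi ((stk (A := AddCommGrpCat.{u + 1}) ξ).map (cokernel.π u)) :=
      (stk (A := AddCommGrpCat.{u + 1}) ξ).map_epi _
    rw [← cancel_epi ((stk (A := AddCommGrpCat.{u + 1}) ξ).map (cokernel.π u)),
      ← cancel_epi ((stk (A := AddCommGrpCat.{u + 1}) ξ).map u), Category.comp_id, comp_zero, ← Functor.map_comp,
      cokernel.condition, Functor.map_zero, comp_zero]
  let S : ShortComplex (EtCoh.Ab X) := ShortComplex.mk (kernel.ι u) u (kernel.condition u)
  have hS : S.ShortExact :=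
    { exact := ShortComplex.exact_of_f_is_kernel _ (kernelIsKernel u)
      mono_f := inferInstanceAs (Mono (kernel.ι u))
      epi_g := inferInstanceAs (Epi u) }
  haveI hiu : IsIso ((EtCoh.pull i).map u) := by
    haveI := counit_isIso_of_closedImmersion i ((EtCoh.pull i).obj F)
    haveI : IsIso ((EtCoh.pull i).map u ≫ (EtCoh.pullPushAdj i).counit.app ((EtCoh.pull i).obj F)) := by
      erw [(EtCoh.pullPushAdj i).left_triangle_components F]
      exact IsIso.id _
    exact IsIso.of_isIso_comp_right _ ((EtCoh.pullPushAdj i).counit.app ((EtCoh.pull i).obj F))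
  haveI : IsIso ((EtCoh.pull c).map u) := by
    refine (NatIso.isIso_map_iff
      (EtCore.pullCongr (pullback.condition : c = k₂ ≫ i) ≪≫ EtCore.pullComp k₂ i) u).2 ?_
    show IsIso ((EtCoh.pull k₂).map ((EtCoh.pull i).map u))
    infer_instance
  have hK0 : IsZero ((EtCoh.pull i).obj S.X₁) :=
    IsZero.of_mono_eq_zero ((EtCoh.pull i).map (kernel.ι u)) (by
      rw [← cancel_mono ((EtCoh.pull i).map u), ← Functor.map_comp, kernel.condition, Functor.map_zero, zero_comp])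
  have hS' := hS.map_of_exact (EtCoh.pull b)
  -- the comparison on the kernel
  have hα : ∀ p, Function.Bijective (EtCore.Hpull b S.X₁ p) :=
    bijective_Hpull_proper b i V hV S.X₁ (isTorsion_of_mono (kernel.ι u) hF) hK0
  -- cohomology of the restrictions
  let θ : ∀ p, EtCoh.H X M p →+ EtCoh.H Z ((EtCoh.pull i).obj F) p := fun p =>
    (post (inv ((EtCoh.pull i).map u)) p).comp (EtCore.Hpull i M p)
  have hθ : ∀ p, Function.Bijective (θ p) := fun p =>
    (bijective_post _ p).comp (bijective_Hpull_closed i M hM0 p)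
  let θ' : ∀ p, EtCoh.H X' ((EtCoh.pull b).obj M) p →+ EtCoh.H (pullback b i) ((EtCoh.pull c).obj F) p := fun p =>
    (post (inv ((EtCoh.pull c).map u)) p).comp (EtCore.HpullVia k₁ b c rfl M p)
  have hθ' : ∀ p, Function.Bijective (θ' p) := fun p => by
    have hw : c = c := rfl
    suffices hb : Function.Bijective (EtCore.Hpull k₁ ((EtCoh.pull b).obj M) p) from
      (bijective_post (inv ((EtCoh.pull c).map u)) p).comp (show Function.Bijective (EtCore.HpullVia k₁ b c rfl M p) from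
        (bijective_post ((((EtCore.pullComp k₁ b).symm ≪≫ EtCore.pullCongr hw).app M).hom) p).comp hb)
    refine bijective_Hpull_closed k₁ ((EtCoh.pull b).obj M) (fun Ω _ _ ξ hξ => ?_) p
    refine stalkPull_zero b M ξ (hM0 Ω (ξ ≫ b) fun h => hξ ?_)
    rw [show Set.range k₁.base = b.base ⁻¹' Set.range i.base from Scheme.Pullback.range_fst b i]
    exact h
  -- the squares
  have hj : ∀ p (x : EtCoh.H X F p), θ p (post u p x) = EtCore.Hpull i F p x := fun p x => by
    show (EtCore.Hpull i M p (x.comp (Ext.mk₀ u) (add_zero p))).comp (Ext.mk₀ (inv ((EtCoh.pull i).map u))) (add_zero p) = _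
    rw [EtAcycLib.Hpull_postcomp, Ext.comp_assoc_of_second_deg_zero, Ext.mk₀_comp_mk₀, IsIso.hom_inv_id,
      Ext.comp_mk₀_id]
  have hj' : ∀ p (y : EtCoh.H X' ((EtCoh.pull b).obj F) p),
      θ' p (post ((EtCoh.pull b).map u) p y) = EtCore.HpullVia k₁ b c rfl F p y := fun p y => by
    show (EtCore.HpullVia k₁ b c rfl M p (y.comp (Ext.mk₀ ((EtCoh.pull b).map u)) (add_zero p))).comp
      (Ext.mk₀ (inv ((EtCoh.pull c).map u))) (add_zero p) = _
    rw [HpullVia_postcomp, Ext.comp_assoc_of_second_deg_zero, Ext.mk₀_comp_mk₀, IsIso.hom_inv_id, Ext.comp_mk₀_id]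
  have hγ : ∀ p (x : EtCoh.H X M p), θ' p (EtCore.Hpull b M p x) =
      EtCore.HpullVia k₂ i c pullback.condition.symm F p (θ p x) := fun p x => by
    show (EtCore.HpullVia k₁ b c rfl M p (EtCore.Hpull b M p x)).comp
      (Ext.mk₀ (inv ((EtCoh.pull c).map u))) (add_zero p) = _
    have h := HpullVia_postcomp k₂ i c pullback.condition.symm u p (θ p x)
    have e : (θ p x).comp (Ext.mk₀ ((EtCoh.pull i).map u)) (add_zero p) = EtCore.Hpull i M p x := by
      show ((EtCore.Hpull i M p x).comp (Ext.mk₀ (inv ((EtCoh.pull i).map u))) (add_zero p)).comp _ (add_zero p) = _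
      rw [Ext.comp_assoc_of_second_deg_zero, Ext.mk₀_comp_mk₀, IsIso.inv_hom_id, Ext.comp_mk₀_id]
    rw [e, HpullVia_comp] at h
    rw [HpullVia_comp, h, Ext.comp_assoc_of_second_deg_zero, Ext.mk₀_comp_mk₀, IsIso.hom_inv_id, Ext.comp_mk₀_id]
  exact ladder (fun p => post S.f p) (fun p => post S.g p) (fun p => bdy hS p)
    (fun p => post (S.map (EtCoh.pull b)).f p) (fun p => post (S.map (EtCoh.pull b)).g p) (fun p => bdy hS' p)
    (fun p => EtCore.Hpull b S.X₁ p) (fun p => EtCore.Hpull b F p) (fun p => EtCore.Hpull b M p) hα θ hθ θ' hθ'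
    (fun p => EtCore.Hpull i F p) (fun p => EtCore.HpullVia k₁ b c rfl F p)
    (fun p => EtCore.HpullVia k₂ i c pullback.condition.symm F p) hj hj' hγ
    (fun p x => EtAcycLib.Hpull_postcomp b S.f p x) (fun p x => EtAcycLib.Hpull_postcomp b S.g p x)
    (fun p x => EtAcycLib.Hpull_delta b hS x)
    (fun p => (exact_post hS p).1) (fun p => (exact_post hS p).2.1) (fun p => (exact_post hS p).2.2)
    (fun p => (exact_post hS' p).1) (fun p => (exact_post hS' p).2.1) (fun p => (exact_post hS' p).2.2)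
    (by haveI := hS'.mono_f; exact Ext.postcomp_mk₀_injective_of_mono _ (S.map (EtCoh.pull b)).f)

end EtBlowSq

end
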